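import Mathlib

/-!
Prime divisors of values of cyclotomic polynomials; Zsigmondy's theorem.
-/

set_option autoImplicit false
set_option linter.style.haveILetI false

open Polynomial

namespace CfsgLib.NumberTheory

/-- `|Φₙ(a)|`. -/
noncomputable def cycVal (n a : ℕ) : ℕ := ((cyclotomic n ℤ).eval (a : ℤ)).natAbs

theorem dvd_cycVal_iff {r n a : ℕ} :
    r ∣ cycVal n a ↔ IsRoot (cyclotomic n (ZMod r)) (a : ZMod r) := by
  have h := cyclotomic.eval_apply (a : ℤ) n (Int.castRingHom (ZMod r))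
  simp only [Int.coe_castRingHom, Int.cast_natCast] at h
  rw [IsRoot.def, h, ZMod.intCast_zmod_eq_zero_iff_dvd, cycVal, ← Int.natCast_dvd]

theorem ne_zero_of_root {r n a : ℕ} [Fact r.Prime] (hn : 0 < n)
    (h : IsRoot (cyclotomic n (ZMod r)) (a : ZMod r)) : (a : ZMod r) ≠ 0 := by
  intro h0
  rw [IsRoot.def, h0, ← coeff_zero_eq_eval_zero] at h
  rcases Nat.lt_or_ge 1 n with h1 | h1
  · rw [cyclotomic_coeff_zero _ h1] at h; exact one_ne_zero h
  · obtain rfl : n = 1 := by omega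
    simp at h

/-- A prime divides `Φₙ(a)` exactly when `n` is its order times a power of it. -/
theorem dvd_cycVal_iff_order {r n a : ℕ} [hr : Fact r.Prime] (hn : 0 < n) :
    r ∣ cycVal n a ↔ (a : ZMod r) ≠ 0 ∧ ∃ j : ℕ, n = r ^ j * orderOf (a : ZMod r) := by
  rw [dvd_cycVal_iff]
  constructor
  · intro h
    refine ⟨ne_zero_of_root hn h, ?_⟩
    obtain ⟨j, m, hm, rfl⟩ := Nat.exists_eq_pow_mul_and_not_dvd hn.ne' r hr.out.ne_one
    haveI : NeZero (m : ZMod r) := ⟨by rwa [Ne, ZMod.natCast_eq_zero_iff]⟩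
    exact ⟨j, by rw [((isRoot_cyclotomic_prime_pow_mul_iff_of_charP (p := r)).mp h).eq_orderOf]⟩
  · rintro ⟨h0, j, hj⟩
    have hpow : (a : ZMod r) ^ (r - 1) = 1 := ZMod.pow_card_sub_one_eq_one h0
    have hdvd := orderOf_dvd_of_pow_eq_one hpow
    have hpos : 0 < orderOf (a : ZMod r) := by
      rcases Nat.eq_zero_or_pos (orderOf (a : ZMod r)) with e | e
      · rw [e, Nat.mul_zero] at hj; omega
      · exact e
    haveI : NeZero (orderOf (a : ZMod r) : ZMod r) := ⟨fun e => by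
      rw [ZMod.natCast_eq_zero_iff] at e
      have h1 := Nat.le_of_dvd hpos e
      have h2 := Nat.le_of_dvd (Nat.sub_pos_of_lt hr.out.one_lt) hdvd
      omega⟩
    rw [hj, isRoot_cyclotomic_prime_pow_mul_iff_of_charP]
    exact IsPrimitiveRoot.orderOf _

/-- The order of `a` mod `r` is less than `r`. -/
theorem order_lt {r a : ℕ} [hr : Fact r.Prime] (h0 : (a : ZMod r) ≠ 0) :
    orderOf (a : ZMod r) < r := by
  have h := Nat.le_of_dvd (Nat.sub_pos_of_lt hr.out.one_lt)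
    (orderOf_dvd_of_pow_eq_one (ZMod.pow_card_sub_one_eq_one h0))
  have := hr.out.one_lt
  omega

theorem dvd_pow_sub_one_iff {r a k : ℕ} (ha : 0 < a) :
    r ∣ a ^ k - 1 ↔ (a : ZMod r) ^ k = 1 := by
  rw [← ZMod.natCast_eq_zero_iff, Nat.cast_sub (Nat.one_le_pow _ _ ha), sub_eq_zero]
  push_cast
  rfl

theorem cycVal_dvd_pow_sub_one {n a : ℕ} (ha : 0 < a) : cycVal n a ∣ a ^ n - 1 := by
  have h := eval_dvd (x := (a : ℤ)) (cyclotomic.dvd_X_pow_sub_one n ℤ)
  simp only [eval_sub, eval_pow, eval_X, eval_one] at h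
  rw [cycVal, ← Int.natCast_dvd_natCast, Int.natAbs_dvd]
  rw [Nat.cast_sub (Nat.one_le_pow _ _ ha)]
  push_cast
  exact h

theorem sum_one_add_mul_pow {c r : ℤ} (i : ℕ) : r ^ 2 ∣ (1 + c * r) ^ i - (1 + i * (c * r)) := by
  induction i with
  | zero => simp
  | succ i ih =>
    have e : (1 + c * r) ^ (i + 1) - (1 + ((i + 1 : ℕ) : ℤ) * (c * r))
        = ((1 + c * r) ^ i - (1 + (i : ℤ) * (c * r))) * (1 + c * r) + r ^ 2 * ((i : ℤ) * c ^ 2) := by
      push_cast; ring
    rw [e]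
    exact dvd_add (ih.mul_right _) (dvd_mul_right _ _)

/-- If `r ∣ n` then `r` divides `Φₙ(a)` at most once, unless `n = 2`. -/
theorem sq_not_dvd_cycVal {r n a : ℕ} [hr : Fact r.Prime] (ha : 1 < a) (hn : 2 < n) (hrn : r ∣ n)
    (h : r ∣ cycVal n a) : ¬ r ^ 2 ∣ cycVal n a := by
  intro h2
  have hn0 : 0 < n := by omega
  obtain ⟨d, hd⟩ := hrn
  have hd0 : 0 < d := Nat.pos_of_ne_zero fun e => by rw [e, Nat.mul_zero] at hd; omega
  have hdn : d < n := by rw [hd]; exact lt_mul_left hd0 hr.out.one_lt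
  obtain ⟨h0, j, hj⟩ := (dvd_cycVal_iff_order hn0).mp h
  -- `b = a ^ d` is congruent to `1`
  have hb : (a : ZMod r) ^ d = 1 := by
    rcases Nat.eq_zero_or_pos j with rfl | hj0
    · exfalso
      rw [pow_zero, one_mul] at hj
      have h1 := order_lt (r := r) h0
      rw [← hj] at h1
      have h2 : r ≤ n := Nat.le_of_dvd hn0 ⟨d, hd⟩
      omega
    · refine orderOf_dvd_iff_pow_eq_one.mp ?_
      obtain ⟨k, rfl⟩ := Nat.exists_eq_succ_of_ne_zero hj0.ne'
      rw [pow_succ', mul_assoc, hd] at hj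
      exact ⟨r ^ k, by rw [Nat.eq_of_mul_eq_mul_left hr.out.pos hj, Nat.mul_comm]⟩
  set b : ℤ := (a : ℤ) ^ d with hbdef
  have hb1 : b - 1 ≠ 0 := by
    have : (1 : ℤ) < b := one_lt_pow₀ (by exact_mod_cast ha) hd0.ne'
    omega
  have hdiv : (cyclotomic n ℤ).eval (a : ℤ) ∣ ∑ i ∈ Finset.range r, b ^ i := by
    have h1 := eval_dvd (x := (a : ℤ)) (X_pow_sub_one_mul_cyclotomic_dvd_X_pow_sub_one_of_dvd ℤ
      (Nat.mem_properDivisors.mpr ⟨⟨r, by rw [hd, Nat.mul_comm]⟩, hdn⟩))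
    simp only [eval_mul, eval_sub, eval_pow, eval_X, eval_one] at h1
    rw [← hbdef, show (a : ℤ) ^ n = b ^ r by rw [hbdef, ← pow_mul, hd, Nat.mul_comm],
      show b ^ r - 1 = (b - 1) * ∑ i ∈ Finset.range r, b ^ i from (mul_geom_sum b r).symm] at h1
    exact (mul_dvd_mul_iff_left hb1).mp h1
  have hr2 : ((r : ℤ) ^ 2) ∣ ∑ i ∈ Finset.range r, b ^ i := by
    refine dvd_trans ?_ hdiv
    rw [← Int.dvd_natAbs]
    exact_mod_cast h2
  have hrb : (r : ℤ) ∣ b - 1 := by
    rw [← ZMod.intCast_zmod_eq_zero_iff_dvd, hbdef]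
    push_cast
    rw [hb, sub_self]
  rcases hr.out.eq_two_or_odd' with hr' | hodd
  · subst hr'
    obtain ⟨e, he⟩ : 2 ∣ d := by
      rcases Nat.eq_zero_or_pos j with rfl | hj0
      · have h1 := order_lt (r := 2) h0
        rw [pow_zero, one_mul] at hj
        omega
      · have h1 := order_lt (r := 2) h0
        have hone : orderOf (a : ZMod 2) = 1 := by
          rcases Nat.eq_zero_or_pos (orderOf (a : ZMod 2)) with e | e
          · rw [e, Nat.mul_zero] at hj; omega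
          · omega
        rw [hone, Nat.mul_one] at hj
        have hj2 : 2 ≤ j := by
          by_contra hcon
          obtain rfl : j = 1 := by omega
          rw [pow_one] at hj
          omega
        obtain ⟨k, rfl⟩ : ∃ k, j = k + 2 := ⟨j - 2, by omega⟩
        rw [pow_succ', hd] at hj
        exact ⟨2 ^ k, by rw [← pow_succ', Nat.eq_of_mul_eq_mul_left (by norm_num) hj]⟩
    rw [Finset.sum_range_succ, Finset.sum_range_one, pow_zero, pow_one] at hr2
    obtain ⟨c, hc⟩ := hrb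
    have hsq : b = ((a : ℤ) ^ e) ^ 2 := by rw [hbdef, ← pow_mul, he, Nat.mul_comm]
    rcases Int.even_or_odd ((a : ℤ) ^ e) with ⟨t, ht⟩ | ⟨t, ht⟩
    · rw [ht] at hsq
      have : b = 2 * (2 * (t * t)) := by rw [hsq]; ring
      push_cast at hc
      omega
    · rw [ht] at hsq
      have : b = 4 * (t * t + t) + 1 := by rw [hsq]; ring
      norm_num at hr2
      omega
  · obtain ⟨c, hc⟩ := hrb
    have hb' : b = 1 + c * r := by linarith
    have h1 : (r : ℤ) ^ 2 ∣ ∑ i ∈ Finset.range r, (b ^ i - (1 + (i : ℤ) * (c * r))) :=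
      Finset.dvd_sum fun i _ => by rw [hb']; exact sum_one_add_mul_pow i
    rw [Finset.sum_sub_distrib] at h1
    have h3 := dvd_sub hr2 h1
    rw [sub_sub_cancel, Finset.sum_add_distrib, ← Finset.sum_mul] at h3
    have h4 : r ∣ ∑ i ∈ Finset.range r, i := by
      refine (Nat.Coprime.dvd_of_dvd_mul_right ?_
        (Dvd.intro (r - 1) (Finset.sum_range_id_mul_two r).symm))
      exact (Nat.coprime_two_right.mpr hodd)
    obtain ⟨q, hq⟩ := h4
    rw [← Nat.cast_sum, hq] at h3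
    simp only [Finset.sum_const, Finset.card_range, nsmul_eq_mul, mul_one] at h3
    have h5 : (r : ℤ) ^ 2 ∣ r := by
      have h6 : (r : ℤ) ^ 2 ∣ ((r * q : ℕ) : ℤ) * (c * r) := by
        push_cast; exact ⟨q * c, by ring⟩
      simpa using dvd_sub h3 h6
    have h7 : r ^ 2 ∣ r := by exact_mod_cast h5
    have h8 := Nat.le_of_dvd hr.out.pos h7
    have := hr.out.one_lt
    nlinarith

theorem cyclotomic_eval_pow {r m : ℕ} (hr : r.Prime) (hm : r ∣ m) (x : ℤ) (j : ℕ) :
    (cyclotomic (m * r ^ j) ℤ).eval x = (cyclotomic m ℤ).eval (x ^ r ^ j) := by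
  induction j generalizing x with
  | zero => simp
  | succ j ih =>
    rw [pow_succ, ← mul_assoc, ← cyclotomic_expand_eq_cyclotomic hr (hm.mul_right _), expand_eval, ih,
      ← pow_mul, Nat.mul_comm (r ^ j) r]

theorem pow_bound {r x : ℕ} (hx : 2 ≤ x) (h : 5 ≤ r ∨ (r = 3 ∧ 8 ≤ x)) :
    (x + 1) * r + 1 < x ^ r := by
  rcases h with h | ⟨rfl, h⟩
  · obtain ⟨k, rfl⟩ : ∃ k, r = k + 5 := ⟨r - 5, by omega⟩
    have h1 : 2 * (k + 5) ≤ 2 ^ (k + 4) := by
      clear h
      induction k with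
      | zero => norm_num
      | succ k ih => rw [show k + 1 + 4 = k + 4 + 1 by ring, pow_succ]; omega
    have h2 : 2 ^ (k + 4) ≤ x ^ (k + 4) := Nat.pow_le_pow_left hx _
    have h3 : x * (2 * (k + 5)) ≤ x ^ (k + 5) := by
      rw [pow_succ' x]
      exact Nat.mul_le_mul_left x (h1.trans h2)
    nlinarith
  · have h3 : x ^ 3 = x * x * x := by ring
    have h4 : 64 * x ≤ x * x * x := Nat.mul_le_mul_right x (Nat.mul_le_mul h h)
    omega

/-- `Φ_{m r}(x) > r` for `x` large enough. -/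
theorem lt_cyclotomic_eval {r m x : ℕ} (hr : r.Prime) (hm : ¬ r ∣ m) (hx : 2 ≤ x)
    (h : 5 ≤ r ∨ (r = 3 ∧ 8 ≤ x)) :
    (r : ℤ) < (cyclotomic (m * r) ℤ).eval (x : ℤ) := by
  have hm0 : 0 < m := Nat.pos_of_ne_zero fun e => hm (e ▸ dvd_zero r)
  have hx1 : (1 : ℝ) < x := by exact_mod_cast (show 1 < x by omega)
  have hxr : (1 : ℝ) < (x : ℝ) ^ r := one_lt_pow₀ hx1 hr.ne_zero
  have he := congrArg (eval (x : ℝ)) (cyclotomic_expand_eq_cyclotomic_mul hr hm ℝ)
  rw [expand_eval, eval_mul] at he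
  have hlow := sub_one_pow_totient_le_cyclotomic_eval hxr m
  have hup := cyclotomic_eval_le_add_one_pow_totient hx1 m
  have hpos : 0 < (cyclotomic m ℝ).eval (x : ℝ) := by
    have := sub_one_pow_totient_le_cyclotomic_eval hx1 m
    exact lt_of_lt_of_le (pow_pos (by linarith) _) this
  have hφ : 0 < m.totient := Nat.totient_pos.mpr hm0
  have hkey : (r : ℝ) * ((x : ℝ) + 1) ^ m.totient < ((x : ℝ) ^ r - 1) ^ m.totient := by
    have h1 : ((x : ℝ) + 1) * r < (x : ℝ) ^ r - 1 := by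
      have h2 : (((x + 1) * r + 1 : ℕ) : ℝ) < ((x ^ r : ℕ) : ℝ) := by exact_mod_cast pow_bound hx h
      push_cast at h2
      linarith
    refine lt_of_le_of_lt ?_ (pow_lt_pow_left₀ h1 (by positivity) hφ.ne')
    rw [mul_pow, mul_comm]
    gcongr
    exact le_self_pow₀ (by exact_mod_cast hr.one_le) hφ.ne'
  have hmain : (r : ℝ) < (cyclotomic (m * r) ℝ).eval (x : ℝ) := by
    by_contra hcon
    push Not at hcon
    have h1 : (cyclotomic m ℝ).eval ((x : ℝ) ^ r) ≤ (r : ℝ) * ((x : ℝ) + 1) ^ m.totient := by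
      rw [he]
      exact mul_le_mul hcon hup hpos.le (by positivity)
    linarith
  have h2 := cyclotomic.eval_apply (x : ℤ) (m * r) (Int.castRingHom ℝ)
  simp only [Int.coe_castRingHom, Int.cast_natCast] at h2
  rw [h2] at hmain
  exact_mod_cast hmain

theorem orderOf_two_mod_three : orderOf ((2 : ℕ) : ZMod 3) = 2 := by
  rw [Nat.cast_ofNat]
  exact orderOf_eq_prime (by decide +kernel) (by decide +kernel)

/-- Zsigmondy's theorem. -/
theorem exists_primitive_prime {a n : ℕ} (ha : 1 < a) (hn : 1 < n) (h6 : ¬ (a = 2 ∧ n = 6))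
    (h2 : ¬ (n = 2 ∧ ∃ m : ℕ, a + 1 = 2 ^ m)) :
    ∃ r : ℕ, r.Prime ∧ r ∣ a ^ n - 1 ∧ ∀ k : ℕ, 0 < k → k < n → ¬ r ∣ a ^ k - 1 := by
  rcases Nat.lt_or_ge 2 n with hn2 | hn2
  swap
  · obtain rfl : n = 2 := by omega
    by_cases hpp : ∀ r : ℕ, r.Prime → r ∣ a + 1 → r = 2
    · exact absurd ⟨rfl, _, Nat.eq_prime_pow_of_unique_prime_dvd (by omega) @hpp⟩ h2
    push Not at hpp
    obtain ⟨r, hr, hra, hr2⟩ := hpp
    refine ⟨r, hr, ?_, fun k hk hk2 hd => ?_⟩
    · have : a ^ 2 - 1 = (a + 1) * (a - 1) := by rw [← Nat.sq_sub_sq a 1, one_pow]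
      rw [this]
      exact hra.mul_right _
    · obtain rfl : k = 1 := by omega
      rw [pow_one] at hd
      have h3 : r ∣ 2 := by
        have := Nat.dvd_sub hra hd
        rwa [show a + 1 - (a - 1) = 2 by omega] at this
      exact hr2 ((Nat.prime_dvd_prime_iff_eq hr Nat.prime_two).mp h3)
  by_contra hcon
  push Not at hcon
  have hn0 : 0 < n := by omega
  -- every prime divisor of `Φₙ(a)` divides `n` and is its largest prime
  have hall : ∀ r : ℕ, r.Prime → r ∣ cycVal n a →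
      r ∣ n ∧ ∃ j : ℕ, n = r ^ (j + 1) * orderOf (a : ZMod r) ∧ orderOf (a : ZMod r) < r := by
    intro r hr hrd
    haveI := Fact.mk hr
    obtain ⟨h0, j, hj⟩ := (dvd_cycVal_iff_order hn0).mp hrd
    have hord := order_lt (r := r) h0
    rcases Nat.eq_zero_or_pos j with rfl | hj0
    · exfalso
      rw [pow_zero, one_mul] at hj
      obtain ⟨k, hk0, hk, hkd⟩ := hcon r hr (hrd.trans (cycVal_dvd_pow_sub_one (by omega)))
      rw [dvd_pow_sub_one_iff (by omega)] at hkd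
      exact absurd (Nat.le_of_dvd hk0 (orderOf_dvd_of_pow_eq_one hkd)) (by omega)
    · obtain ⟨k, rfl⟩ := Nat.exists_eq_succ_of_ne_zero hj0.ne'
      exact ⟨(dvd_pow_self r (Nat.succ_ne_zero k)).trans ⟨_, hj⟩, k, hj, hord⟩
  have hle : ∀ r s : ℕ, r.Prime → r ∣ cycVal n a → s.Prime → s ∣ n → s ≤ r := by
    intro r s hr hrd hs hsn
    obtain ⟨-, j, hj, hord⟩ := hall r hr hrd
    rw [hj] at hsn
    rcases hs.dvd_mul.mp hsn with h | h
    · exact Nat.le_of_dvd hr.pos (hs.dvd_of_dvd_pow h)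
    · have hpos : 0 < orderOf (a : ZMod r) := by
        rcases Nat.eq_zero_or_pos (orderOf (a : ZMod r)) with e | e
        · rw [e, Nat.mul_zero] at hj; omega
        · exact e
      exact (Nat.le_of_dvd hpos h).trans hord.le
  have hgt := sub_one_pow_totient_lt_natAbs_cyclotomic_eval (n := n) (q := a) (by omega) (by omega)
  change (a - 1) ^ n.totient < cycVal n a at hgt
  have h1 : 1 ≤ (a - 1) ^ n.totient := Nat.one_le_pow _ _ (by omega)
  obtain ⟨r, hr, hrd⟩ := Nat.exists_prime_and_dvd (show cycVal n a ≠ 1 by omega)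
  haveI := Fact.mk hr
  obtain ⟨hrn, j, hj, hord⟩ := hall r hr hrd
  have hval : cycVal n a = r := by
    obtain ⟨k, hk⟩ : ∃ k, cycVal n a = r ^ k := ⟨_, Nat.eq_prime_pow_of_unique_prime_dvd (by omega)
      fun {s} hs hsd => le_antisymm (hle r s hr hrd hs (hall s hs hsd).1) (hle s r hs hsd hr hrn)⟩
    have hk1 : k = 1 := by
      rcases Nat.lt_or_ge k 2 with hk2 | hk2
      · by_contra
        obtain rfl : k = 0 := by omega
        rw [pow_zero] at hk
        omega
      · exact absurd (hk ▸ pow_dvd_pow r hk2) (sq_not_dvd_cycVal ha hn2 hrn hrd)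
    rw [hk, hk1, pow_one]
  rcases Nat.lt_or_ge 2 a with ha3 | ha3
  · have h3 : r - 1 ≤ n.totient := by
      have := Nat.le_of_dvd (Nat.totient_pos.mpr hn0) (Nat.totient_dvd_of_dvd hrn)
      rwa [Nat.totient_prime hr] at this
    have h4 : 2 ^ (r - 1) ≤ (a - 1) ^ n.totient :=
      (Nat.pow_le_pow_left (by omega) _).trans (Nat.pow_le_pow_right (by omega) h3)
    have h5 : r - 1 < 2 ^ (r - 1) := Nat.lt_two_pow_self
    omega
  obtain rfl : a = 2 := by omega
  have hr2 : r ≠ 2 := by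
    rintro rfl
    obtain ⟨h0, -⟩ := (dvd_cycVal_iff_order hn0).mp hrd
    exact h0 (ZMod.natCast_self 2)
  have hmr : ¬ r ∣ orderOf ((2 : ℕ) : ZMod r) := fun h => by
    rcases Nat.eq_zero_or_pos (orderOf ((2 : ℕ) : ZMod r)) with e | e
    · rw [e, Nat.mul_zero] at hj; omega
    · exact absurd (Nat.le_of_dvd e h) (by omega)
  set m := orderOf ((2 : ℕ) : ZMod r) with hm
  clear_value m
  have hcase : 5 ≤ r ∨ (r = 3 ∧ 8 ≤ 2 ^ r ^ j) := by
    rcases Nat.lt_or_ge r 5 with h5 | h5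
    · right
      obtain rfl : r = 3 := by
        have := hr.two_le
        interval_cases r <;> first | rfl | omega | exact absurd hr (by decide)
      refine ⟨rfl, ?_⟩
      have hm2 : m = 2 := hm.trans orderOf_two_mod_three
      rw [hm2] at hj
      rcases Nat.eq_zero_or_pos j with rfl | hj0
      · exact absurd ⟨rfl, by rw [hj]; norm_num⟩ h6
      · calc 8 = 2 ^ 3 ^ 1 := by norm_num
          _ ≤ 2 ^ 3 ^ j := Nat.pow_le_pow_right (by norm_num) (Nat.pow_le_pow_right (by norm_num) hj0)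
    · exact Or.inl h5
  have hx2 : 2 ≤ 2 ^ r ^ j := by
    calc 2 = 2 ^ 1 := by norm_num
      _ ≤ _ := Nat.pow_le_pow_right (by norm_num) (Nat.one_le_pow _ _ hr.pos)
  have hbig := lt_cyclotomic_eval hr hmr hx2 hcase
  push_cast at hbig
  rw [← cyclotomic_eval_pow hr (dvd_mul_left r m) 2 j,
    show m * r * r ^ j = n by rw [hj, pow_succ]; ring] at hbig
  have h3 : (r : ℤ) < (cycVal n 2 : ℤ) := lt_of_lt_of_le hbig Int.le_natAbs
  rw [hval] at h3
  exact lt_irrefl _ h3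

end CfsgLib.NumberTheory
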