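import Cfsg.Agent.Lib.NumberTheory.Zsigmondy

/-!
The primitive part of `q^n - 1` is at least `3n + 1` apart from thirteen pairs.
-/

set_option autoImplicit false
set_option linter.style.haveILetI false

open Polynomial
open scoped ArithmeticFunction.Moebius

namespace CfsgLib.NumberTheory.PrimitivePart

/-- a product of `1 - 2^-d` stays above one quarter -/
theorem quarter_le_prod (n : ℕ) :
    (1 : ℝ) / 4 + (1 / 2) ^ (n + 2) ≤ ∏ d ∈ Finset.Icc 1 (n + 1), (1 - (1 / 2) ^ d) := by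
  induction n with
  | zero => norm_num
  | succ n ih =>
    rw [Finset.prod_Icc_succ_top (by omega)]
    set a := ((1 : ℝ) / 2) ^ (n + 2) with ha
    have ha0 : 0 ≤ a := by positivity
    have ha4 : a ≤ 1 / 4 := by
      calc a ≤ (1 / 2) ^ 2 := pow_le_pow_of_le_one (by norm_num) (by norm_num) (by omega)
        _ = _ := by norm_num
    have e : ((1 : ℝ) / 2) ^ (n + 1 + 2) = a / 2 := by rw [ha, pow_succ]; ring
    rw [e]
    calc (1 : ℝ) / 4 + a / 2 ≤ (1 / 4 + a) * (1 - a) := by nlinarith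
      _ ≤ _ := mul_le_mul_of_nonneg_right ih (by linarith)

/-- `Φ_n(q) ≥ q^φ(n) / 4` -/
theorem pow_totient_le {n q : ℕ} (hn : 0 < n) (hq : 2 ≤ q) :
    q ^ n.totient ≤ 4 * CfsgLib.NumberTheory.cycVal n q := by
  have hq1 : (1 : ℝ) < q := by exact_mod_cast (show 1 < q by omega)
  have hq0 : (0 : ℝ) < q := by linarith
  let f : ℕ → ℝ := fun d => (cyclotomic d ℝ).eval (q : ℝ) / (q : ℝ) ^ d.totient
  let g : ℕ → ℝ := fun d => 1 - ((1 : ℝ) / q) ^ d
  have hgpos : ∀ d, 0 < d → 0 < g d := fun d hd => by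
    have : ((1 : ℝ) / q) ^ d < 1 := pow_lt_one₀ (by positivity) ((div_lt_one hq0).2 hq1) hd.ne'
    show 0 < 1 - _
    linarith
  have hprod : ∀ m > 0, ∏ i ∈ m.divisors, f i = g m := fun m hm => by
    show ∏ i ∈ m.divisors, (cyclotomic i ℝ).eval (q : ℝ) / (q : ℝ) ^ i.totient = _
    rw [Finset.prod_div_distrib, ← eval_prod, prod_cyclotomic_eq_X_pow_sub_one hm,
      Finset.prod_pow_eq_pow_sum, Nat.sum_totient]
    show _ = 1 - ((1 : ℝ) / q) ^ m
    rw [eval_sub, eval_pow, eval_X, eval_one, one_div, inv_pow, sub_div, one_div,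
      div_self (pow_ne_zero _ hq0.ne')]
  have hf : ∀ d, 0 < d → f d ≠ 0 := fun d _ =>
    div_ne_zero (cyclotomic_pos' d hq1).ne' (pow_ne_zero _ hq0.ne')
  have h := (ArithmeticFunction.prod_eq_iff_prod_pow_moebius_eq_of_nonzero hf
    fun d hd => (hgpos d hd).ne').1 hprod n hn
  have hlow : (1 : ℝ) / 4 ≤ f n := by
    rw [← h, ← Nat.map_div_left_divisors, Finset.prod_map]
    refine le_trans ?_ (Finset.prod_le_prod (fun d hd => (hgpos d (Nat.pos_of_mem_divisors hd)).le)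
      (fun d hd => ?_))
    · calc (1 : ℝ) / 4 ≤ 1 / 4 + (1 / 2) ^ (n - 1 + 2) := le_add_of_nonneg_right (by positivity)
        _ ≤ ∏ d ∈ Finset.Icc 1 (n - 1 + 1), (1 - (1 / 2) ^ d) := quarter_le_prod _
        _ ≤ ∏ d ∈ Finset.Icc 1 (n - 1 + 1), g d := by
          refine Finset.prod_le_prod (fun d hd => ?_) (fun d hd => ?_)
          · have : ((1 : ℝ) / 2) ^ d ≤ 1 := pow_le_one₀ (by norm_num) (by norm_num)
            linarith
          · have : ((1 : ℝ) / q) ^ d ≤ (1 / 2) ^ d := pow_le_pow_left₀ (by positivity)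
              (one_div_le_one_div_of_le (by norm_num) (by exact_mod_cast hq)) d
            show 1 - _ ≤ 1 - _
            linarith
        _ ≤ ∏ d ∈ n.divisors, g d := by
          refine Finset.prod_le_prod_of_subset_of_le_one (fun d hd => ?_)
            (fun d hd => (hgpos d (Finset.mem_Icc.1 hd).1).le) fun d _ _ => ?_
          · rw [Finset.mem_Icc]
            exact ⟨Nat.pos_of_mem_divisors hd, by have := Nat.divisor_le hd; omega⟩
          · show 1 - _ ≤ (1 : ℝ)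
            have : (0 : ℝ) ≤ ((1 : ℝ) / q) ^ d := by positivity
            linarith
    · show g d ≤ g d ^ μ (n / d)
      have hd0 := hgpos d (Nat.pos_of_mem_divisors hd)
      calc g d = g d ^ (1 : ℤ) := (zpow_one _).symm
        _ ≤ _ := zpow_le_zpow_right_of_le_one₀ hd0 (by
          show 1 - _ ≤ (1 : ℝ)
          have : (0 : ℝ) ≤ ((1 : ℝ) / q) ^ d := by positivity
          linarith) (le_trans (le_abs_self _) ArithmeticFunction.abs_moebius_le_one)
  have h2 : (q : ℝ) ^ n.totient ≤ 4 * (cyclotomic n ℝ).eval (q : ℝ) := by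
    rw [le_div_iff₀ (pow_pos hq0 _)] at hlow
    linarith
  have h3 := cyclotomic.eval_apply (q : ℤ) n (Int.castRingHom ℝ)
  simp only [Int.coe_castRingHom, Int.cast_natCast] at h3
  rw [h3] at h2
  have h4 : ((q : ℤ) ^ n.totient) ≤ 4 * (cyclotomic n ℤ).eval (q : ℤ) := by exact_mod_cast h2
  have h5 : ((q ^ n.totient : ℕ) : ℤ) ≤ ((4 * CfsgLib.NumberTheory.cycVal n q : ℕ) : ℤ) := by
    push_cast
    exact h4.trans (Int.mul_le_mul_of_nonneg_left Int.le_natAbs (by norm_num))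
  exact_mod_cast h5

/-- `m` divides `q^n - 1` and is coprime to every smaller `q^i - 1` -/
def IsPrim (q n m : ℕ) : Prop :=
  m ∣ q ^ n - 1 ∧ ∀ i : ℕ, 1 ≤ i → i < n → Nat.Coprime m (q ^ i - 1)

theorem exists_prim_large {n q : ℕ} (hn : 2 < n) (hq : 2 ≤ q) :
    ∃ m, IsPrim q n m ∧ q ^ n.totient ≤ 4 * (n * m) := by
  set P := CfsgLib.NumberTheory.cycVal n q with hP
  set r := Nat.gcd P n with hr
  have hdvd : P ∣ q ^ n - 1 := CfsgLib.NumberTheory.cycVal_dvd_pow_sub_one (by omega)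
  have hrP : r * (P / r) = P := Nat.mul_div_cancel' (Nat.gcd_dvd_left _ _)
  refine ⟨P / r, ⟨(Dvd.intro_left _ hrP).trans hdvd, fun i hi hin => ?_⟩, ?_⟩
  · refine Nat.coprime_of_dvd fun s hs hsm hsi => ?_
    haveI := Fact.mk hs
    have hsP : s ∣ P := hsm.trans (Dvd.intro_left _ hrP)
    obtain ⟨-, j, hj⟩ := (CfsgLib.NumberTheory.dvd_cycVal_iff_order (by omega)).1 hsP
    have hord : orderOf (q : ZMod s) ∣ i := orderOf_dvd_of_pow_eq_one
      ((CfsgLib.NumberTheory.dvd_pow_sub_one_iff (by omega)).1 hsi)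
    rcases Nat.eq_zero_or_pos j with rfl | hj0
    · rw [pow_zero, one_mul] at hj
      exact absurd (Nat.le_of_dvd (by omega) (hj ▸ hord)) (by omega)
    · have hsn : s ∣ n := hj ▸ (dvd_pow_self s hj0.ne').mul_right _
      refine CfsgLib.NumberTheory.sq_not_dvd_cycVal (by omega) hn hsn hsP ?_
      rw [pow_two, ← hP, ← hrP]
      exact Nat.mul_dvd_mul (Nat.dvd_gcd hsP hsn) hsm
  · calc q ^ n.totient ≤ 4 * P := pow_totient_le (by omega) hq
      _ = 4 * (r * (P / r)) := by rw [hrP]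
      _ ≤ _ := Nat.mul_le_mul_left _ (Nat.mul_le_mul_right _ (Nat.le_of_dvd (by omega) (Nat.gcd_dvd_right _ _)))

/-- `n^3 ≤ 16 φ(n)^4` -/
theorem cube_le_totient {n : ℕ} (hn : 0 < n) : n ^ 3 ≤ 16 * n.totient ^ 4 := by
  classical
  let c : ℕ → ℕ := fun p => if p = 2 then 8 else if p = 3 then 2 else 1
  set R := ∏ p ∈ n.primeFactors, p with hR
  set S := ∏ p ∈ n.primeFactors, (p - 1) with hS
  obtain ⟨t, ht⟩ : R ∣ n := Nat.prod_primeFactors_dvd n
  have hRpos : 0 < R := Finset.prod_pos fun p hp => (Nat.prime_of_mem_primeFactors hp).pos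
  have htot : n.totient = t * S := by
    refine Nat.eq_of_mul_eq_mul_right hRpos ?_
    rw [hR, Nat.totient_mul_prod_primeFactors, ← hR, ← hS]
    calc n * S = R * t * S := by rw [← ht]
      _ = _ := by ring
  have hterm : ∀ p ∈ n.primeFactors, p ^ 3 ≤ c p * (p - 1) ^ 4 := by
    intro p hp
    have hp2 := (Nat.prime_of_mem_primeFactors hp).two_le
    simp only [c]
    by_cases e2 : p = 2
    · subst e2; decide
    by_cases e3 : p = 3
    · subst e3; decide
    rw [if_neg e2, if_neg e3, one_mul]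
    obtain ⟨k, rfl⟩ : ∃ k, p = k + 4 := ⟨p - 4, by omega⟩
    rw [show k + 4 - 1 = k + 3 by omega]
    nlinarith [Nat.zero_le k, sq_nonneg k, Nat.pow_le_pow_left (Nat.le_add_left 3 k) 3]
  have hc : ∏ p ∈ n.primeFactors, c p ≤ 16 := by
    calc ∏ p ∈ n.primeFactors, c p = ∏ p ∈ n.primeFactors ∩ {2, 3}, c p := by
          refine (Finset.prod_subset Finset.inter_subset_left fun p hp hnot => ?_).symm
          have h23 : p ∉ ({2, 3} : Finset ℕ) := fun h => hnot (Finset.mem_inter.2 ⟨hp, h⟩)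
          simp only [Finset.mem_insert, Finset.mem_singleton, not_or] at h23
          simp [c, h23.1, h23.2]
      _ ≤ ∏ p ∈ ({2, 3} : Finset ℕ), c p :=
          Finset.prod_le_prod_of_subset_of_one_le Finset.inter_subset_right (fun p _ => Nat.zero_le _)
            fun p _ _ => by simp only [c]; split_ifs <;> omega
      _ = 16 := by simp [c]
  have hmain : R ^ 3 ≤ 16 * S ^ 4 := by
    calc R ^ 3 = ∏ p ∈ n.primeFactors, p ^ 3 := by rw [hR, Finset.prod_pow]
      _ ≤ ∏ p ∈ n.primeFactors, c p * (p - 1) ^ 4 := Finset.prod_le_prod (fun p _ => Nat.zero_le _) hterm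
      _ = (∏ p ∈ n.primeFactors, c p) * S ^ 4 := by rw [Finset.prod_mul_distrib, Finset.prod_pow]
      _ ≤ _ := Nat.mul_le_mul_right _ hc
  have ht0 : 0 < t := Nat.pos_of_ne_zero fun e => by rw [e, mul_zero] at ht; omega
  calc n ^ 3 = R ^ 3 * t ^ 3 := by rw [ht, mul_pow]
    _ ≤ 16 * S ^ 4 * t ^ 4 := Nat.mul_le_mul hmain (Nat.pow_le_pow_right ht0 (by norm_num))
    _ = _ := by rw [htot]; ring

theorem two_mul_pow_four_le {k : ℕ} (hk : 19 ≤ k) : 2 * k ^ 4 ≤ 2 ^ k := by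
  induction k, hk using Nat.le_induction with
  | base => norm_num
  | succ k hk ih =>
    have h : (k + 1) ^ 4 ≤ 2 * k ^ 4 := by
      have h1 : 19 * k ^ 3 ≤ k ^ 4 := by rw [pow_succ k 3, mul_comm _ k]; exact Nat.mul_le_mul_right _ hk
      have h2 : 19 * k ^ 2 ≤ k ^ 3 := by rw [pow_succ k 2, mul_comm _ k]; exact Nat.mul_le_mul_right _ hk
      have h3 : 19 * k ≤ k ^ 2 := by rw [pow_two]; exact Nat.mul_le_mul_right _ hk
      have e : (k + 1) ^ 4 = k ^ 4 + 4 * k ^ 3 + 6 * k ^ 2 + 4 * k + 1 := by ring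
      omega
    calc 2 * (k + 1) ^ 4 ≤ 2 * (2 * k ^ 4) := by omega
      _ ≤ 2 * 2 ^ k := by omega
      _ = _ := by rw [pow_succ]; ring

theorem large_n {n : ℕ} (hn : 128 ≤ n) : 4 * (n * (3 * n + 1)) ≤ 2 ^ n.totient := by
  have h := cube_le_totient (show 0 < n by omega)
  have hbig : 128 * n ^ 2 ≤ n ^ 3 := by rw [pow_succ n 2, mul_comm _ n]; exact Nat.mul_le_mul_right _ hn
  have hk : 19 ≤ n.totient := by
    by_contra hlt
    push Not at hlt
    have h1 : n.totient ^ 4 ≤ 18 ^ 4 := Nat.pow_le_pow_left (by omega) _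
    have h2 : 128 ^ 3 ≤ n ^ 3 := Nat.pow_le_pow_left hn _
    omega
  have h3 := two_mul_pow_four_le hk
  have e : 4 * (n * (3 * n + 1)) = 12 * n ^ 2 + 4 * n := by ring
  have hn2 : n ≤ n ^ 2 := by rw [pow_two]; exact Nat.le_mul_self n
  omega

/-- the exceptional pairs with their primitive parts -/
def excTab : List (ℕ × ℕ × ℕ) :=
  [(2, 6, 1), (2, 4, 5), (2, 10, 11), (2, 12, 13), (2, 18, 19), (3, 4, 5), (3, 6, 7), (5, 6, 7),
    (2, 3, 7), (2, 8, 17), (2, 20, 41), (4, 3, 7), (4, 6, 13)]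

/-- repeatedly remove common factors -/
def strip (a : ℕ) : ℕ → ℕ → ℕ
  | 0, m => m
  | k + 1, m => strip a k (m / Nat.gcd m a)

/-- the candidate for the primitive part -/
def cand (q n : ℕ) : ℕ :=
  (List.range' 1 (n - 1)).foldl (fun m i => if n % i = 0 then strip (q ^ i - 1) 8 m else m) (q ^ n - 1)

/-- test of one pair -/
def pairOK (q n : ℕ) : Bool :=
  let m := cand q n
  (excTab.any fun t => t.1 == q && t.2.1 == n) ||
    ((q ^ n - 1) % m == 0 && 3 * n + 1 ≤ m &&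
      (List.range' 1 (n - 1)).all fun i => Nat.gcd m (q ^ i - 1) == 1)

/-- the first base for which the general bound suffices -/
def firstBase (n k : ℕ) : ℕ :=
  ((List.range' 2 30).find? fun q => decide (4 * (n * (3 * n + 1)) ≤ q ^ k)).getD 0

theorem small_checks : ((List.range' 3 125).all fun n =>
    let k := n.totient
    let b := firstBase n k
    decide (4 * (n * (3 * n + 1)) ≤ b ^ k) && (List.range' 2 (b - 2)).all fun q => pairOK q n) = true := by
  decide +kernel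

theorem exc_checks : (excTab.all fun t => (t.2.2 * (∏ i ∈ Finset.Ico 1 t.2.1, (t.1 ^ i - 1)) ^ 8) % (t.1 ^ t.2.1 - 1) == 0 &&
    decide (t.2.2 ≤ 2 * t.2.1 + 1)) = true := by
  decide +kernel

theorem exists_prim {q n : ℕ} (hq : 2 ≤ q) (hn : 3 ≤ n)
    (hexc : (q, n) ∉ [(2, 6), (2, 4), (2, 10), (2, 12), (2, 18), (3, 4), (3, 6), (5, 6), (2, 3), (2, 8), (2, 20), (4, 3), (4, 6)]) :
    ∃ m, IsPrim q n m ∧ 3 * n + 1 ≤ m := by
  have key : 4 * (n * (3 * n + 1)) ≤ q ^ n.totient → ∃ m, IsPrim q n m ∧ 3 * n + 1 ≤ m := fun h => by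
    obtain ⟨m, hm, hle⟩ := exists_prim_large (show 2 < n by omega) hq
    exact ⟨m, hm, Nat.le_of_mul_le_mul_left (Nat.le_of_mul_le_mul_left (h.trans hle) (by norm_num)) (by omega)⟩
  rcases Nat.lt_or_ge n 128 with hlt | hge
  · have h := List.all_eq_true.1 small_checks n (List.mem_range'_1.2 ⟨hn, by omega⟩)
    simp only [Bool.and_eq_true, decide_eq_true_eq, List.all_eq_true] at h
    rcases Nat.lt_or_ge q (firstBase n n.totient) with hqb | hqb
    · have h2 := h.2 q (List.mem_range'_1.2 ⟨hq, by omega⟩)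
      simp only [pairOK, Bool.or_eq_true, List.any_eq_true, Bool.and_eq_true, beq_iff_eq,
        decide_eq_true_eq, List.all_eq_true] at h2
      rcases h2 with ⟨⟨a, b, c⟩, ht, rfl, rfl⟩ | ⟨⟨hd, hle⟩, hco⟩
      · refine absurd ?_ hexc
        have := List.mem_map_of_mem (f := fun t : ℕ × ℕ × ℕ => (t.1, t.2.1)) ht
        simpa [excTab] using this
      · exact ⟨cand q n, ⟨Nat.dvd_of_mod_eq_zero hd, fun i hi hin =>
          hco i (List.mem_range'_1.2 ⟨hi, by omega⟩)⟩, hle⟩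
    · exact key (h.1.trans (Nat.pow_le_pow_left hqb _))
  · exact key ((large_n hge).trans (Nat.pow_le_pow_left hq _))

theorem prim_le {q n : ℕ}
    (hexc : (q, n) ∈ [(2, 6), (2, 4), (2, 10), (2, 12), (2, 18), (3, 4), (3, 6), (5, 6), (2, 3), (2, 8), (2, 20), (4, 3), (4, 6)])
    {m : ℕ} (hm : IsPrim q n m) : m ≤ 2 * n + 1 := by
  obtain ⟨⟨a, b, c⟩, ht, he⟩ : ∃ t ∈ excTab, (t.1, t.2.1) = (q, n) := by
    have : (q, n) ∈ excTab.map fun t => (t.1, t.2.1) := hexc
    obtain ⟨t, ht, he⟩ := List.mem_map.1 this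
    exact ⟨t, ht, he⟩
  simp only [Prod.mk.injEq] at he
  obtain ⟨rfl, rfl⟩ := he
  have h := List.all_eq_true.1 exc_checks _ ht
  simp only [Bool.and_eq_true, beq_iff_eq, decide_eq_true_eq] at h
  have hcop : Nat.Coprime m ((∏ i ∈ Finset.Ico 1 b, (a ^ i - 1)) ^ 8) :=
    (Nat.Coprime.prod_right fun i hi => hm.2 i (Finset.mem_Ico.1 hi).1 (Finset.mem_Ico.1 hi).2).pow_right 8
  have hc : 0 < c := (by decide : ∀ t ∈ excTab, 0 < t.2.2) _ ht
  exact (Nat.le_of_dvd hc (hcop.dvd_of_dvd_mul_right (hm.1.trans (Nat.dvd_of_mod_eq_zero h.1)))).trans h.2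

end CfsgLib.NumberTheory.PrimitivePart
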