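/-
Two primes, at distance at least four, in the upper half of an interval.
-/
import Mathlib

set_option autoImplicit false

open Finset Nat

namespace CfsgLib.NumberTheory

theorem four_mul_le_two_pow {j : ℕ} (hj : 6 ≤ j) : 4 * (2 * j + 2) ≤ 2 ^ j := by
  induction j, hj using Nat.le_induction with
  | base => norm_num
  | succ j hj ih => rw [pow_succ]; omega

theorem main_inequality {n : ℕ} (hn : 2048 ≤ n) :
    n * ((2 * n) ^ (Nat.sqrt (2 * n) + 2) * 4 ^ (2 * n / 3)) ≤ 4 ^ n := by
  set s := Nat.sqrt (2 * n) with hs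
  set k := Nat.log 2 (2 * n) with hk
  have hk12 : 12 ≤ k := Nat.le_log_of_pow_le (by norm_num) (by omega)
  have hlt : 2 * n < 2 ^ (k + 1) := Nat.lt_pow_succ_log_self (by norm_num) _
  have hle : 2 ^ k ≤ 2 * n := Nat.pow_log_le_self 2 (by omega)
  have hj : 2 ^ (k / 2) ≤ s := by
    rw [hs, Nat.le_sqrt, ← pow_add]
    exact (Nat.pow_le_pow_right (by norm_num) (by omega)).trans hle
  have h4 : 4 * (k + 1) ≤ s :=
    le_trans (by omega) ((four_mul_le_two_pow (j := k / 2) (by omega)).trans hj)
  have hss : s * s ≤ 2 * n := Nat.sqrt_le _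
  have hs64 : 64 ≤ s := le_trans (by
    calc 64 = 2 ^ 6 := by norm_num
      _ ≤ 2 ^ (k / 2) := Nat.pow_le_pow_right (by norm_num) (by omega)) hj
  have hexp : (k + 1) * (s + 3) + 2 * (2 * n / 3) ≤ 2 * n := by
    have h1 : 4 * (k + 1) * (s + 3) ≤ s * (s + 3) := Nat.mul_le_mul_right _ h4
    have h2 : 9 * s ≤ 2 * n := le_trans (Nat.mul_le_mul_right s (by omega)) hss
    have h3 : 4 * ((k + 1) * (s + 3)) ≤ 2 * n + 3 * s := by nlinarith [h1, hss]
    omega
  calc n * ((2 * n) ^ (s + 2) * 4 ^ (2 * n / 3))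
      ≤ (2 * n) * ((2 * n) ^ (s + 2) * 4 ^ (2 * n / 3)) := Nat.mul_le_mul_right _ (by omega)
    _ = (2 * n) ^ (s + 3) * 4 ^ (2 * n / 3) := by ring
    _ ≤ (2 ^ (k + 1)) ^ (s + 3) * 4 ^ (2 * n / 3) :=
        Nat.mul_le_mul_right _ (Nat.pow_le_pow_left hlt.le _)
    _ = 2 ^ ((k + 1) * (s + 3) + 2 * (2 * n / 3)) := by
        rw [← pow_mul, pow_add, show (4 : ℕ) = 2 ^ 2 by norm_num, ← pow_mul]
    _ ≤ 2 ^ (2 * n) := Nat.pow_le_pow_right (by norm_num) hexp
    _ = 4 ^ n := by rw [pow_mul]; norm_num

/-- For `n ≥ 2048` there are at least three primes in `(n, 2 n]`. -/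
theorem three_primes {n : ℕ} (hn : 2048 ≤ n) :
    3 ≤ ((Finset.range (2 * n + 1)).filter fun p => p.Prime ∧ n < p).card := by
  set T := (Finset.range (2 * n + 1)).filter fun p => p.Prime ∧ n < p with hT
  by_contra hlt
  have hpos : 0 < 2 * n := by omega
  let f x := x ^ n.centralBinom.factorization x
  have hf : ∀ p, f p ≤ 2 * n := fun p => Nat.pow_factorization_choose_le hpos
  let S := (Finset.range (2 * n / 3 + 1)).filter Nat.Prime
  have hdis : Disjoint S T := by
    rw [Finset.disjoint_left]
    intro p hp hp'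
    simp only [S, T, Finset.mem_filter, Finset.mem_range] at hp hp'
    omega
  have hprod : n.centralBinom = ∏ p ∈ S ∪ T, f p := by
    refine (Eq.trans ?_ n.prod_pow_factorization_centralBinom).symm
    refine Finset.prod_subset ?_ fun p hp hp' => ?_
    · intro p hp
      simp only [S, T, Finset.mem_union, Finset.mem_filter, Finset.mem_range] at hp ⊢
      omega
    · simp only [S, T, Finset.mem_union, Finset.mem_filter, Finset.mem_range] at hp hp'
      show p ^ n.centralBinom.factorization p = 1
      by_cases hpp : p.Prime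
      · rw [Nat.factorization_centralBinom_of_two_mul_self_lt_three_mul (by omega)
          (by by_contra h; exact hp' (Or.inr ⟨hp, hpp, by omega⟩))
          (by by_contra h; exact hp' (Or.inl ⟨by omega, hpp⟩)), pow_zero]
      · rw [Nat.factorization_eq_zero_of_not_prime n.centralBinom hpp, pow_zero]
  have hS : ∏ p ∈ S, f p ≤ (2 * n) ^ Nat.sqrt (2 * n) * 4 ^ (2 * n / 3) := by
    rw [← Finset.prod_filter_mul_prod_filter_not S (· ≤ Nat.sqrt (2 * n))]
    apply Nat.mul_le_mul
    · refine (Finset.prod_le_prod' fun p _ => hf p).trans ?_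
      rw [Finset.prod_const]
      refine Nat.pow_le_pow_right hpos ((Finset.card_le_card fun x hx => ?_).trans
        (le_of_eq (by rw [Nat.card_Icc, Nat.add_sub_cancel] : (Finset.Icc 1 (Nat.sqrt (2 * n))).card = _)))
      simp only [S, Finset.mem_filter, Finset.mem_range] at hx
      exact Finset.mem_Icc.mpr ⟨hx.1.2.one_lt.le, hx.2⟩
    · refine le_trans ?_ (primorial_le_four_pow (2 * n / 3))
      refine (Finset.prod_le_prod' fun p hp => (?_ : f p ≤ p)).trans ?_
      · obtain ⟨h1, h2⟩ := Finset.mem_filter.1 hp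
        refine (Nat.pow_le_pow_right (Finset.mem_filter.1 h1).2.pos ?_).trans (pow_one p).le
        exact Nat.factorization_choose_le_one (Nat.sqrt_lt'.mp <| not_le.1 h2)
      · refine Finset.prod_le_prod_of_subset_of_one_le' (Finset.filter_subset _ _) ?_
        exact fun p hp _ => (Finset.mem_filter.1 hp).2.one_lt.le
  have hTp : ∏ p ∈ T, f p ≤ (2 * n) ^ 2 := by
    refine (Finset.prod_le_prod' fun p _ => hf p).trans ?_
    rw [Finset.prod_const]
    exact Nat.pow_le_pow_right hpos (by omega)
  have hb : n.centralBinom ≤ (2 * n) ^ (Nat.sqrt (2 * n) + 2) * 4 ^ (2 * n / 3) := by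
    rw [hprod, Finset.prod_union hdis]
    refine (Nat.mul_le_mul hS hTp).trans (le_of_eq ?_)
    ring
  exact absurd (Nat.four_pow_lt_mul_centralBinom n (by omega))
    (not_lt.mpr ((Nat.mul_le_mul_left n hb).trans (main_inequality hn)))

/-- For `m ≥ 17` there are primes `p < q ≤ m < 2 p` with `p + 4 ≤ q`. -/
theorem exists_two_primes {m : ℕ} (hm : 17 ≤ m) :
    ∃ p q : ℕ, p.Prime ∧ q.Prime ∧ m < 2 * p ∧ p + 4 ≤ q ∧ q ≤ m := by
  rcases le_or_gt 4100 m with h | h
  · have h3 := three_primes (n := m / 2) (by omega)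
    set T := (Finset.range (2 * (m / 2) + 1)).filter fun p => p.Prime ∧ m / 2 < p with hT
    have hne : T.Nonempty := Finset.card_pos.mp (by omega)
    have hmin := Finset.mem_filter.mp (T.min'_mem hne)
    have hmax := Finset.mem_filter.mp (T.max'_mem hne)
    rw [Finset.mem_range] at hmin hmax
    refine ⟨T.min' hne, T.max' hne, hmin.2.1, hmax.2.1, by omega, ?_, by omega⟩
    by_contra hlt
    have hodd : Odd (T.min' hne) := hmin.2.1.odd_of_ne_two (by omega)
    have hsub : T ⊆ {T.min' hne, T.min' hne + 2} := by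
      intro x hx
      have hxm := Finset.mem_filter.mp hx
      have hxodd : Odd x := hxm.2.1.odd_of_ne_two (by omega)
      have := T.min'_le x hx
      have := T.le_max' x hx
      rw [Nat.odd_iff] at hodd hxodd
      rw [Finset.mem_insert, Finset.mem_singleton]
      omega
    have := Finset.card_le_card hsub
    have := Finset.card_le_two (a := T.min' hne) (b := T.min' hne + 2)
    omega
  · have : ∀ pq ∈ [(13, 17), (19, 23), (31, 37), (53, 59), (97, 101), (181, 191), (353, 359),
        (691, 701), (1373, 1381), (2731, 2741)], Nat.Prime pq.1 ∧ Nat.Prime pq.2 ∧ pq.1 + 4 ≤ pq.2 := by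
      simp only [List.mem_cons, List.not_mem_nil, or_false, forall_eq_or_imp, forall_eq]
      norm_num
    have key : ∀ p q, (p, q) ∈ [(13, 17), (19, 23), (31, 37), (53, 59), (97, 101), (181, 191),
        (353, 359), (691, 701), (1373, 1381), (2731, 2741)] → m < 2 * p → q ≤ m →
        ∃ p q : ℕ, p.Prime ∧ q.Prime ∧ m < 2 * p ∧ p + 4 ≤ q ∧ q ≤ m :=
      fun p q hpq h1 h2 => ⟨p, q, (this _ hpq).1, (this _ hpq).2.1, h1, (this _ hpq).2.2, h2⟩
    by_cases h1 : m < 26; · exact key 13 17 (by simp) (by omega) (by omega)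
    by_cases h2 : m < 38; · exact key 19 23 (by simp) (by omega) (by omega)
    by_cases h3 : m < 62; · exact key 31 37 (by simp) (by omega) (by omega)
    by_cases h4 : m < 106; · exact key 53 59 (by simp) (by omega) (by omega)
    by_cases h5 : m < 194; · exact key 97 101 (by simp) (by omega) (by omega)
    by_cases h6 : m < 362; · exact key 181 191 (by simp) (by omega) (by omega)
    by_cases h7 : m < 706; · exact key 353 359 (by simp) (by omega) (by omega)
    by_cases h8 : m < 1382; · exact key 691 701 (by simp) (by omega) (by omega)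
    by_cases h9 : m < 2746; · exact key 1373 1381 (by simp) (by omega) (by omega)
    exact key 2731 2741 (by simp) (by omega) (by omega)

end CfsgLib.NumberTheory
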